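/-
Coset enumeration certificate: the assembled result.
-/
import Cfsg.Agent.Lib.Spor.TC.Steps
import Cfsg.Agent.Lib.Spor.Fi23Plus.Rels
import Cfsg.Agent.Lib.Spor.Fi23Plus.CK.Part0
import Cfsg.Agent.Lib.Spor.Fi23Plus.CK.Part1
import Cfsg.Agent.Lib.Spor.Fi23Plus.CK.Part2
import Cfsg.Agent.Lib.Spor.Fi23Plus.CK.Part3
import Cfsg.Agent.Lib.Spor.Fi23Plus.CK.Part4

namespace CfsgLib.Spor.Fi23Plus.CK

open CfsgLib.Spor.TC

theorem steps_ok : cert.StepsOK 0 38849 :=
  ((((((((((((steps0.append _ steps3000).append _ steps6000).append _ steps9000).append _ steps12000).append _ steps15000).append _ steps18000).append _ steps21000).append _ steps24000).append _ steps27000).append _ steps30000).append _ steps33000).append _ steps36000)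

theorem rows_ok : cert.RowsOK 38849 1080 0 1080 :=
  (rows0.append _ rows600)

theorem row_zero : cert.rowNode 0 = 0 := by decide +kernel

/-- The certificate, for the relators as powers of words. -/
noncomputable def cosetCert : CosetCert 9 relsK [0, 1, 2, 3, 4, 5, 6, 7] 1080 :=
  ⟨cert, 38849, steps_ok, rows_ok, row_zero, by decide, rfl, by decide +kernel, by decide +kernel⟩

end CfsgLib.Spor.Fi23Plus.CK
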